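import Groth.Agent.Lib.AmpleFin18.Proj
import Groth.Agent.Lib.ModM1.ClosedImm
import Groth.Agent.Lib.TensorMod.PullStalk
import Mathlib.LinearAlgebra.TensorProduct.Tower
import Mathlib.RingTheory.TensorProduct.Basic

/-!
# The projection formula along a closed immersion, for arbitrary modules
-/

universe u

open CategoryTheory CategoryTheory.Limits AlgebraicGeometry TopologicalSpace Opposite TensorProduct

set_option autoImplicit false
set_option linter.style.haveILetI false
set_option backward.isDefEq.respectTransparency false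
set_option backward.isDefEq.respectTransparency.types false

noncomputable section

namespace Groth.Agent.ClImmProj14

open Groth.Agent Groth.Agent.M2

variable {X Z : Scheme.{u}} (i : Z ⟶ X) [IsClosedImmersion i] (M : X.Modules) (A : Z.Modules)

/-- The stalk of a direct image at a point of the image. -/
def sigma (B : Z.Modules) (z : Z) :
    (((Scheme.Modules.pushforward i).obj B).presheaf.stalk (i z) : Type u) →+ (B.presheaf.stalk z : Type u) :=
  (TopCat.Presheaf.stalkPushforward AddCommGrpCat.{u} i.base B.presheaf z).hom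

omit [IsClosedImmersion i] in
theorem sigma_germ (B : Z.Modules) (z : Z) {U : X.Opens} (h : i z ∈ U) (t : Γ(B, i ⁻¹ᵁ U)) :
    sigma i B z (((Scheme.Modules.pushforward i).obj B).presheaf.germ U (i z) h t) =
      B.presheaf.germ (i ⁻¹ᵁ U) z h t := by
  exact TopCat.Presheaf.stalkPushforward_germ_apply (C := AddCommGrpCat.{u}) i.base B.presheaf U z h t

theorem bijective_sigma (B : Z.Modules) (z : Z) : Function.Bijective (sigma i B z) := by
  have := TopCat.Presheaf.stalkPushforward.stalkPushforward_iso_of_isInducing (C := AddCommGrpCat.{u})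
    (f := i.base) i.isClosedEmbedding.isInducing B.presheaf z
  exact ConcreteCategory.bijective_of_isIso (TopCat.Presheaf.stalkPushforward AddCommGrpCat.{u} i.base B.presheaf z)

omit [IsClosedImmersion i] in
theorem sigma_smul (B : Z.Modules) (z : Z) (r : X.presheaf.stalk (i z))
    (a : (((Scheme.Modules.pushforward i).obj B).presheaf.stalk (i z) : Type u)) :
    sigma i B z (r • a) = i.stalkMap z r • sigma i B z a := by
  obtain ⟨U, hU, s, rfl⟩ := ((Scheme.Modules.pushforward i).obj B).presheaf.germ_exist a
  obtain ⟨V, hV, c, rfl⟩ := X.presheaf.germ_exist r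
  have hW : i z ∈ U ⊓ V := ⟨hU, hV⟩
  rw [← TopCat.Presheaf.germ_res_apply ((Scheme.Modules.pushforward i).obj B).presheaf
      (homOfLE (inf_le_left : U ⊓ V ≤ U)) (i z) hW s,
    ← TopCat.Presheaf.germ_res_apply X.presheaf (homOfLE (inf_le_right : U ⊓ V ≤ V)) (i z) hW c,
    ← M1.germ_smul, sigma_germ, sigma_germ, Scheme.Hom.germ_stalkMap_apply]
  exact M1.germ_smul _ _ _ _

omit [IsClosedImmersion i] in
/-- The algebra of the stalk computation. -/
theorem chain_tmul {R S : Type u} [CommRing R] [CommRing S] [Algebra R S] {N A' A₀ P : Type u}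
    [AddCommGroup N] [Module R N] [AddCommGroup A'] [Module R A']
    [AddCommGroup A₀] [Module R A₀] [Module S A₀] [IsScalarTower R S A₀] [AddCommGroup P] [Module S P]
    (σ : A' ≃ₗ[R] A₀) (π : S ⊗[R] N ≃ₗ[S] P) (n : N) (a : A') :
    TensorProduct.comm S A₀ P (TensorProduct.congr (LinearEquiv.refl S A₀) π
      ((TensorProduct.AlgebraTensorModule.cancelBaseChange R S S A₀ N).symm
        (TensorProduct.comm R N A₀ (TensorProduct.congr (LinearEquiv.refl R N) σ (n ⊗ₜ a))))) =
      π (1 ⊗ₜ n) ⊗ₜ σ a := by
  simp

theorem bijective_stalk_of_mem (z : Z) :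
    Function.Bijective ((M1.stalkAb (i z)).map (AmpleFin18.projHom i M A)) := by
  let R := X.presheaf.stalk (i z)
  let S := Z.presheaf.stalk z
  letI : Algebra R S := (i.stalkMap z).hom.toAlgebra
  letI : Module R (A.presheaf.stalk z : Type u) := Module.compHom _ (algebraMap R S)
  haveI : IsScalarTower R S (A.presheaf.stalk z : Type u) :=
    IsScalarTower.of_algebraMap_smul fun _ _ => rfl
  let σL : (((Scheme.Modules.pushforward i).obj A).presheaf.stalk (i z) : Type u) →ₗ[R] (A.presheaf.stalk z : Type u) :=
    { toFun := sigma i A z, map_add' := map_add _, map_smul' := fun r a => sigma_smul i A z r a }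
  let σA : (((Scheme.Modules.pushforward i).obj A).presheaf.stalk (i z) : Type u) ≃ₗ[R] (A.presheaf.stalk z : Type u) :=
    LinearEquiv.ofBijective σL (bijective_sigma i A z)
  let B := CohB1.tensorMod ((Scheme.Modules.pullback i).obj M) A
  let e0 := TensorProduct.congr (LinearEquiv.refl R (M.presheaf.stalk (i z) : Type u)) σA
  let e1 := TensorProduct.comm R (M.presheaf.stalk (i z) : Type u) (A.presheaf.stalk z : Type u)
  let e2 := (TensorProduct.AlgebraTensorModule.cancelBaseChange R S S (A.presheaf.stalk z : Type u)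
    (M.presheaf.stalk (i z) : Type u)).symm
  let e3 := TensorProduct.congr (LinearEquiv.refl S (A.presheaf.stalk z : Type u)) (pullStalkEquiv i z M)
  let e4 := TensorProduct.comm S (A.presheaf.stalk z : Type u)
    (((Scheme.Modules.pullback i).obj M).presheaf.stalk z : Type u)
  let E : _ → _ := fun w => e4 (e3 (e2 (e1 (e0 (stalkEquiv M ((Scheme.Modules.pushforward i).obj A) (i z) w)))))
  have hE : Function.Bijective E :=
    e4.bijective.comp (e3.bijective.comp (e2.bijective.comp (e1.bijective.comp (e0.bijective.comp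
      (stalkEquiv M ((Scheme.Modules.pushforward i).obj A) (i z)).bijective))))
  let F : _ → _ := fun w =>
    stalkEquiv ((Scheme.Modules.pullback i).obj M) A z (sigma i B z ((M1.stalkAb (i z)).map (AmpleFin18.projHom i M A) w))
  suffices hF : F = E by
    have h1 : Function.Bijective F := hF ▸ hE
    exact (Function.Bijective.of_comp_iff'
      (f := fun y => stalkEquiv ((Scheme.Modules.pullback i).obj M) A z (sigma i B z y))
      ((stalkEquiv _ _ z).bijective.comp (bijective_sigma i B z)) _).1 h1
  funext w
  obtain ⟨p, rfl⟩ := (stalkEquiv M ((Scheme.Modules.pushforward i).obj A) (i z)).symm.surjective w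
  induction p using TensorProduct.induction_on with
  | zero =>
    simp only [F, E, map_zero]
  | add p q hp hq =>
    simp only [F, E, map_add] at hp hq ⊢
    rw [hp, hq]
  | tmul a b =>
    obtain ⟨U, hU, s, rfl⟩ := M.presheaf.germ_exist a
    obtain ⟨V, hV, t, rfl⟩ := ((Scheme.Modules.pushforward i).obj A).presheaf.germ_exist b
    have hW : i z ∈ U ⊓ V := ⟨hU, hV⟩
    rw [← M1.germ_mres M (inf_le_left : U ⊓ V ≤ U) hW s,
      ← M1.germ_mres ((Scheme.Modules.pushforward i).obj A) (inf_le_right : U ⊓ V ≤ V) hW t]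
    generalize M1.mres M (inf_le_left : U ⊓ V ≤ U) s = s'
    generalize M1.mres ((Scheme.Modules.pushforward i).obj A) (inf_le_right : U ⊓ V ≤ V) t = t'
    rw [← stalkEquiv_tsec M _ (i z) hW s' t', LinearEquiv.symm_apply_apply]
    have h0 : σA (((Scheme.Modules.pushforward i).obj A).presheaf.germ (U ⊓ V) (i z) hW t') =
        A.presheaf.germ (i ⁻¹ᵁ (U ⊓ V)) z hW t' := sigma_germ i A z hW t'
    simp only [F, E, stalkEquiv_tsec]
    rw [M1.germ_naturality, AmpleFin18.projHom_tsec, sigma_germ, stalkEquiv_tsec]
    refine Eq.trans ?_ (chain_tmul σA (pullStalkEquiv i z M) _ _).symm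
    rw [h0]
    exact congrArg (· ⊗ₜ[Z.presheaf.stalk z] A.presheaf.germ (i ⁻¹ᵁ (U ⊓ V)) z hW t')
      (pullStalkEquiv_tmul i z M hW s').symm

/-- The projection formula along a closed immersion holds for all modules. -/
theorem isIso_projHom : IsIso (AmpleFin18.projHom i M A) := by
  rw [M1.isIso_iff_stalk]
  intro x
  by_cases hx : x ∈ Set.range i
  · obtain ⟨z, rfl⟩ := hx
    exact bijective_stalk_of_mem i M A z
  · have h0 : ∀ w : ((CohB1.tensorMod M ((Scheme.Modules.pushforward i).obj A)).presheaf.stalk x : Type u), w = 0 := by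
      intro w
      refine (stalkEquiv M ((Scheme.Modules.pushforward i).obj A) x).injective ?_
      rw [map_zero]
      induction stalkEquiv M ((Scheme.Modules.pushforward i).obj A) x w using TensorProduct.induction_on with
      | zero => rfl
      | tmul p q => rw [M1.eq_zero_stalk_push i A hx q, TensorProduct.tmul_zero]
      | add p q hp hq => rw [hp, hq, add_zero]
    exact ⟨fun a b _ => (h0 a).trans (h0 b).symm,
      fun c => ⟨0, (map_zero _).trans (M1.eq_zero_stalk_push i _ hx c).symm⟩⟩

/-- The counit of a closed immersion is an isomorphism on all modules. -/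
theorem isIso_counit : IsIso ((Scheme.Modules.pullbackPushforwardAdjunction i).counit.app A) := by
  rw [M1.isIso_iff_stalk]
  intro z
  let adj := Scheme.Modules.pullbackPushforwardAdjunction i
  let G := (Scheme.Modules.pushforward i).obj A
  have key : ∀ {U : X.Opens} (h : i z ∈ U) (s : Γ(A, i ⁻¹ᵁ U)),
      (M1.stalkAb z).map (adj.counit.app A)
        (((Scheme.Modules.pullback i).obj G).presheaf.germ (i ⁻¹ᵁ U) z h (pullSec i G s)) =
      A.presheaf.germ (i ⁻¹ᵁ U) z h s := by
    intro U h s
    refine (M1.germ_naturality _ _ z h _).trans (congrArg _ ?_)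
    have e := congrArg (fun φ => φ.app U s) (adj.right_triangle_components A)
    exact e
  letI : Algebra (X.presheaf.stalk (i z)) (Z.presheaf.stalk z) := (i.stalkMap z).hom.toAlgebra
  have hsurj : ∀ w, ∃ (U : X.Opens) (h : i z ∈ U) (s : Γ(A, i ⁻¹ᵁ U)),
      w = ((Scheme.Modules.pullback i).obj G).presheaf.germ (i ⁻¹ᵁ U) z h (pullSec i G s) := by
    intro w
    obtain ⟨b, rfl⟩ := (pullStalkEquiv i z G).surjective w
    suffices ∃ a : (G.presheaf.stalk (i z) : Type u), b = 1 ⊗ₜ a by
      obtain ⟨a, rfl⟩ := this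
      obtain ⟨U, hU, s, rfl⟩ := G.presheaf.germ_exist a
      exact ⟨U, hU, s, pullStalkEquiv_tmul i z G hU s⟩
    induction b using TensorProduct.induction_on with
    | zero => exact ⟨0, (TensorProduct.tmul_zero _ _).symm⟩
    | tmul c a =>
      obtain ⟨r, hr⟩ := i.stalkMap_surjective z c
      refine ⟨r • a, ?_⟩
      rw [TensorProduct.tmul_smul, TensorProduct.smul_tmul', ← hr]
      congr 1
      exact (Algebra.smul_def r (1 : Z.presheaf.stalk z)).trans (mul_one _) |>.symm
    | add p q hp hq =>
      obtain ⟨a, rfl⟩ := hp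
      obtain ⟨a', rfl⟩ := hq
      exact ⟨a + a', (TensorProduct.tmul_add _ _ _).symm⟩
  constructor
  · intro w w' hww
    obtain ⟨U, hU, s, rfl⟩ := hsurj w
    obtain ⟨V, hV, t, rfl⟩ := hsurj w'
    rw [key hU s, key hV t, ← sigma_germ i A z hU s, ← sigma_germ i A z hV t] at hww
    have h2 := (bijective_sigma i A z).1 hww
    rw [← pullStalkEquiv_tmul i z G hU s, ← pullStalkEquiv_tmul i z G hV t, h2]
  · intro a
    obtain ⟨b, rfl⟩ := (bijective_sigma i A z).2 a
    obtain ⟨U, hU, s, rfl⟩ := G.presheaf.germ_exist b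
    exact ⟨_, (key hU s).trans (sigma_germ i A z hU s).symm⟩

end Groth.Agent.ClImmProj14
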