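import Groth.Agent.Lib.ClImmProj14.Adj
import Groth.Agent.Lib.RDComp.Post
import Mathlib.CategoryTheory.Adjunction.Additive
import Mathlib.CategoryTheory.Preadditive.Yoneda.Basic

/-!
# Derived functors of the right adjoint of `F ↦ ι_* (F ⊗ E)`
-/

universe u

open CategoryTheory CategoryTheory.Limits AlgebraicGeometry Opposite

set_option autoImplicit false
set_option linter.style.haveILetI false
set_option backward.isDefEq.respectTransparency false
set_option backward.isDefEq.respectTransparency.types false

noncomputable section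

namespace Groth.Agent.ClImmProj14

/-- For an additive adjunction `L ⊣ R`, `Hom(F, R -) ≅ Hom(L F, -)` as functors to abelian groups. -/
def coyonedaAdjIso {C : Type*} [Category.{u} C] [Preadditive C] {D : Type*} [Category.{u} D] [Preadditive D]
    {L : C ⥤ D} {R : D ⥤ C} [L.Additive] (adj : L ⊣ R) (F : C) :
    R ⋙ preadditiveCoyoneda.obj (op F) ≅ preadditiveCoyoneda.obj (op (L.obj F)) :=
  NatIso.ofComponents (fun Y => (adj.homAddEquiv F Y).symm.toAddCommGrpIso)
    (fun g => by ext y; exact adj.homEquiv_naturality_right_symm y g)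

open Groth.Agent Groth.Agent.CohMop KFlat KFlat.Sch

variable {X P : Scheme.{u}} (i : X ⟶ P) [IsClosedImmersion i]

theorem isLeftAdjoint_push : (Scheme.Modules.pushforward i).IsLeftAdjoint :=
  haveI : ModSite.HasSheafHom (O := P.sheaf) ((Scheme.Modules.pushforward i).obj (Coh.structureModule X)) :=
    isLeftAdjoint_tenR _
  ((upperAdj i (Coh.structureModule X)).ofNatIsoLeft
    (Functor.isoWhiskerRight RHom.unitorNatIso _ ≪≫ Functor.leftUnitor _)).isLeftAdjoint

theorem preservesHomology_push : (Scheme.Modules.pushforward i).PreservesHomology := by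
  haveI := isLeftAdjoint_push i
  haveI : (Scheme.Modules.pushforward i).IsRightAdjoint :=
    (Scheme.Modules.pullbackPushforwardAdjunction i).isRightAdjoint
  haveI : PreservesColimitsOfSize.{0, 0} (Scheme.Modules.pushforward i) :=
    (Adjunction.ofIsLeftAdjoint (Scheme.Modules.pushforward i)).leftAdjoint_preservesColimits
  haveI : PreservesLimitsOfSize.{0, 0} (Scheme.Modules.pushforward i) :=
    (Scheme.Modules.pullbackPushforwardAdjunction i).rightAdjoint_preservesLimits
  haveI : PreservesFiniteLimits (Scheme.Modules.pushforward i) := PreservesLimitsOfSize.preservesFiniteLimits _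
  haveI : PreservesFiniteColimits (Scheme.Modules.pushforward i) :=
    PreservesColimitsOfSize.preservesFiniteColimits _
  infer_instance

variable (E : X.Modules) [ModSite.HasSheafHom (O := P.sheaf) ((Scheme.Modules.pushforward i).obj E)]

/-- `ℰxt^q(ι_* E, G)` is the direct image of the derived upper functor. -/
theorem nonempty_extSh_iso [HasInjectiveResolutions (ModSite.Mod P.sheaf)] (q : ℕ) (G : P.Modules) :
    haveI := upper_additive i E
    Nonempty ((ModSite.extSh (O := P.sheaf) ((Scheme.Modules.pushforward i).obj E) q).obj G ≅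
      (Scheme.Modules.pushforward i).obj (((upper i E).rightDerived q).obj G)) := by
  haveI := upper_additive i E
  haveI := preservesHomology_push i
  let H₀ : P.Modules ⥤ P.Modules := ModSite.sheafHom (O := P.sheaf) ((Scheme.Modules.pushforward i).obj E)
  haveI : H₀.Additive :=
    (ModSite.sheafHomAdj (O := P.sheaf) ((Scheme.Modules.pushforward i).obj E)).right_adjoint_additive
  obtain ⟨e⟩ := ExtDerived.nonempty_rightDerived_iso_of_iso (F := H₀) q (upperPushIso i E) G
  exact ⟨e ≪≫ (RDComp.rightDerivedPostIso (upper i E) (Scheme.Modules.pushforward i) q).app G⟩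

/-- Modules whose direct image is `ℰxt^q(ι_* E, G)` are the derived upper functor. -/
theorem nonempty_iso_of_push [HasInjectiveResolutions (ModSite.Mod P.sheaf)] (q : ℕ) (G : P.Modules) (M : X.Modules)
    (h : Nonempty ((Scheme.Modules.pushforward i).obj M ≅
      (ModSite.extSh (O := P.sheaf) ((Scheme.Modules.pushforward i).obj E) q).obj G)) :
    haveI := upper_additive i E
    Nonempty (((upper i E).rightDerived q).obj G ≅ M) := by
  haveI := upper_additive i E
  obtain ⟨e⟩ := h
  obtain ⟨e'⟩ := nonempty_extSh_iso i E q G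
  exact ⟨((pushFF i).preimageIso (e ≪≫ e')).symm⟩

/-- `ι_* (F ⊗ E) ≅ ι_* (E ⊗ F)`. -/
def pushCommIso (F : X.Modules) :
    (tenR E ⋙ Scheme.Modules.pushforward i).obj F ≅ (Scheme.Modules.pushforward i).obj (CohB1.tensorMod E F) :=
  (Scheme.Modules.pushforward i).mapIso (M2.tensorComm F E)

section Compose

variable (F : X.Modules) [ModSite.HasSheafHom (O := X.sheaf) F]
  [ModSite.HasSheafHom (O := P.sheaf) ((Scheme.Modules.pushforward i).obj (CohB1.tensorMod E F))]

/-- `ι_* ℋom(F, -)` on `X`. -/
def homPush : X.Modules ⥤ P.Modules :=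
  (ModSite.sheafHom (O := X.sheaf) F : X.Modules ⥤ X.Modules) ⋙ Scheme.Modules.pushforward i

/-- The left adjoint of `upper ⋙ ι_* ℋom(F, -)` is tensoring with `ι_* (E ⊗ F)`. -/
def leftIso : (Scheme.Modules.pullback i ⋙ tenR F) ⋙ (tenR E ⋙ Scheme.Modules.pushforward i) ≅
    tenR ((Scheme.Modules.pushforward i).obj (CohB1.tensorMod E F)) :=
  Functor.associator _ _ _ ≪≫ Functor.isoWhiskerLeft _ ((Functor.associator _ _ _).symm ≪≫
    Functor.isoWhiskerRight ((tensorTenIso F E).symm ≪≫ (TX X).flip.mapIso (M2.tensorComm F E)) _) ≪≫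
    (tenPushIso i (CohB1.tensorMod E F)).symm

/-- `upper ⋙ ι_* ℋom(F, -) ≅ ℋom(ι_* (E ⊗ F), -)`. -/
def upperHomPushIso : upper i E ⋙ homPush i F ≅
    (ModSite.sheafHom (O := P.sheaf) ((Scheme.Modules.pushforward i).obj (CohB1.tensorMod E F)) :
      P.Modules ⥤ P.Modules) :=
  (((Scheme.Modules.pullbackPushforwardAdjunction i).comp
      (ModSite.sheafHomAdj (O := X.sheaf) F : tenR F ⊣ (ModSite.sheafHom (O := X.sheaf) F : X.Modules ⥤ X.Modules))).comp
    (upperAdj i E)).rightAdjointUniq
    ((ModSite.sheafHomAdj (O := P.sheaf) ((Scheme.Modules.pushforward i).obj (CohB1.tensorMod E F)) :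
      tenR ((Scheme.Modules.pushforward i).obj (CohB1.tensorMod E F)) ⊣
        (ModSite.sheafHom (O := P.sheaf) ((Scheme.Modules.pushforward i).obj (CohB1.tensorMod E F)) :
          P.Modules ⥤ P.Modules)).ofNatIsoLeft (leftIso i E F).symm)

theorem homPush_additive : (homPush i F).Additive := by
  haveI := preservesHomology_push i
  haveI : (ModSite.sheafHom (O := X.sheaf) F : X.Modules ⥤ X.Modules).Additive :=
    (ModSite.sheafHomAdj (O := X.sheaf) F).right_adjoint_additive
  haveI : (Scheme.Modules.pushforward i).IsRightAdjoint :=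
    (Scheme.Modules.pullbackPushforwardAdjunction i).isRightAdjoint
  haveI : PreservesLimitsOfSize.{0, 0} (Scheme.Modules.pushforward i) :=
    (Scheme.Modules.pullbackPushforwardAdjunction i).rightAdjoint_preservesLimits
  haveI : (Scheme.Modules.pushforward i).Additive := Functor.additive_of_preserves_binary_products _
  unfold homPush
  infer_instance

theorem homPush_preservesFiniteLimits : PreservesFiniteLimits (homPush i F) := by
  haveI : PreservesLimitsOfSize.{0, 0} (homPush i F) :=
    ((Scheme.Modules.pullbackPushforwardAdjunction i).comp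
      (ModSite.sheafHomAdj (O := X.sheaf) F : tenR F ⊣
        (ModSite.sheafHom (O := X.sheaf) F : X.Modules ⥤ X.Modules))).rightAdjoint_preservesLimits
  exact PreservesLimitsOfSize.preservesFiniteLimits _

theorem nonempty_homPush_rightDerived [HasInjectiveResolutions (ModSite.Mod X.sheaf)] (p : ℕ) (M : X.Modules) :
    haveI := homPush_additive i F
    Nonempty (((homPush i F).rightDerived p).obj M ≅
      (Scheme.Modules.pushforward i).obj ((ModSite.extSh (O := X.sheaf) F p).obj M)) := by
  haveI := preservesHomology_push i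
  let H₁ : X.Modules ⥤ X.Modules := ModSite.sheafHom (O := X.sheaf) F
  haveI : H₁.Additive := (ModSite.sheafHomAdj (O := X.sheaf) F).right_adjoint_additive
  exact ⟨(RDComp.rightDerivedPostIso H₁ (Scheme.Modules.pushforward i) p).app M⟩

end Compose

end Groth.Agent.ClImmProj14
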