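import Groth.Agent.Lib.ClImmProj14.Iso
import Groth.Agent.Lib.FormalH7.Nbhd
import Groth.Agent.Lib.CohMop.TensorDerived
import Mathlib.CategoryTheory.Adjunction.Restrict
import Groth.Prelude.Def_ModSite2

/-!
# The right adjoint of `F ↦ ι_* (F ⊗ E)` for a closed immersion
-/

universe u

open CategoryTheory CategoryTheory.Limits AlgebraicGeometry Opposite

set_option autoImplicit false
set_option linter.style.haveILetI false
set_option backward.isDefEq.respectTransparency false
set_option backward.isDefEq.respectTransparency.types false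

noncomputable section

namespace Groth.Agent.ClImmProj14

open Groth.Agent Groth.Agent.M2 Groth.Agent.CohMop KFlat KFlat.Sch

variable {X P : Scheme.{u}} (i : X ⟶ P) [IsClosedImmersion i]

theorem projHom_natural {M M' : P.Modules} (g : M ⟶ M') (A : X.Modules) :
    M2.tensorMap g (𝟙 ((Scheme.Modules.pushforward i).obj A)) ≫ AmpleFin18.projHom i M' A =
      AmpleFin18.projHom i M A ≫
        (Scheme.Modules.pushforward i).map (M2.tensorMap ((Scheme.Modules.pullback i).map g) (𝟙 A)) := by
  refine M2.tensorMod_hom_ext fun U s t => ?_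
  simp only [M1.comp_app_apply, M2.tensorMap_tsec, AmpleFin18.projHom_tsec]
  refine Eq.trans ?_ (M2.tensorMap_tsec ((Scheme.Modules.pullback i).map g) (𝟙 A) (M2.pullSec i M s) t).symm
  rw [FormalH7.pullSec_naturality]
  rfl

/-- `- ⊗ ι_* A ≅ ι_* (ι^* - ⊗ A)`. -/
def tenPushIso (A : X.Modules) :
    tenR ((Scheme.Modules.pushforward i).obj A) ≅
      Scheme.Modules.pullback i ⋙ tenR A ⋙ Scheme.Modules.pushforward i :=
  NatIso.ofComponents
    (fun M =>
      haveI := isIso_projHom i M A
      asIso (AmpleFin18.projHom i M A))
    fun {M M'} g => by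
      haveI := isIso_projHom i M A
      haveI := isIso_projHom i M' A
      change ((TX P).map g).app ((Scheme.Modules.pushforward i).obj A) ≫ _ =
        _ ≫ (Scheme.Modules.pushforward i).map (((TX X).map ((Scheme.Modules.pullback i).map g)).app A)
      rw [RHom.map_eq_tensorMap_left, RHom.map_eq_tensorMap_left]
      exact projHom_natural i g A

theorem full_push : (Scheme.Modules.pushforward i).Full :=
  haveI : IsIso (Scheme.Modules.pullbackPushforwardAdjunction i).counit :=
    haveI := fun A => isIso_counit i A
    NatIso.isIso_of_isIso_app _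
  (Scheme.Modules.pullbackPushforwardAdjunction i).fullyFaithfulROfIsIsoCounit.full

theorem faithful_push : (Scheme.Modules.pushforward i).Faithful :=
  haveI : IsIso (Scheme.Modules.pullbackPushforwardAdjunction i).counit :=
    haveI := fun A => isIso_counit i A
    NatIso.isIso_of_isIso_app _
  (Scheme.Modules.pullbackPushforwardAdjunction i).fullyFaithfulROfIsIsoCounit.faithful

/-- Direct image along a closed immersion is fully faithful. -/
def pushFF : (Scheme.Modules.pushforward i).FullyFaithful :=
  haveI : IsIso (Scheme.Modules.pullbackPushforwardAdjunction i).counit :=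
    haveI := fun A => isIso_counit i A
    NatIso.isIso_of_isIso_app _
  (Scheme.Modules.pullbackPushforwardAdjunction i).fullyFaithfulROfIsIsoCounit

variable (E : X.Modules)

/-- `ι_* (F ⊗ E) ≅ ι_* F ⊗ ι_* E`. -/
def pushTenSquare :
    Scheme.Modules.pushforward i ⋙ tenR ((Scheme.Modules.pushforward i).obj E) ≅
      (tenR E ⋙ Scheme.Modules.pushforward i) ⋙ 𝟭 P.Modules :=
  haveI := fun A => isIso_counit i A
  haveI : IsIso (Scheme.Modules.pullbackPushforwardAdjunction i).counit := NatIso.isIso_of_isIso_app _
  Functor.isoWhiskerLeft _ (tenPushIso i E) ≪≫ (Functor.associator _ _ _).symm ≪≫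
    Functor.isoWhiskerRight (asIso (Scheme.Modules.pullbackPushforwardAdjunction i).counit) _ ≪≫
    Functor.leftUnitor _ ≪≫ (Functor.rightUnitor _).symm

variable [ModSite.HasSheafHom (O := P.sheaf) ((Scheme.Modules.pushforward i).obj E)]

/-- The internal hom out of a direct image is a direct image. -/
theorem isIso_unit_sheafHom (N : P.Modules) :
    IsIso ((Scheme.Modules.pullbackPushforwardAdjunction i).unit.app
      ((ModSite.sheafHom (O := P.sheaf) ((Scheme.Modules.pushforward i).obj E)).obj N)) := by
  let adj := Scheme.Modules.pullbackPushforwardAdjunction i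
  let T := tenR ((Scheme.Modules.pushforward i).obj E)
  let H₀ : P.Modules ⥤ P.Modules := ModSite.sheafHom (O := P.sheaf) ((Scheme.Modules.pushforward i).obj E)
  let adjH : T ⊣ H₀ := ModSite.sheafHomAdj (O := P.sheaf) ((Scheme.Modules.pushforward i).obj E)
  let H : P.Modules := H₀.obj N
  let η := adj.unit.app H
  haveI : ∀ A, IsIso (adj.counit.app A) := fun A => isIso_counit i A
  haveI hpη : IsIso ((Scheme.Modules.pullback i).map η) := by
    have h := adj.left_triangle_components H
    rw [← IsIso.eq_comp_inv, Category.id_comp] at h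
    rw [h]; infer_instance
  haveI : IsIso (T.map η) := by
    haveI : IsIso ((Scheme.Modules.pullback i ⋙ tenR E ⋙ Scheme.Modules.pushforward i).map η) := by
      dsimp only [Functor.comp_map]; infer_instance
    exact (NatIso.isIso_map_iff (tenPushIso i E) η).2 inferInstance
  let r : (Scheme.Modules.pushforward i).obj ((Scheme.Modules.pullback i).obj H) ⟶ H :=
    adjH.homEquiv _ _ (inv (T.map η) ≫ (adjH.homEquiv H N).symm (𝟙 H))
  have h1 : η ≫ r = 𝟙 H := by
    refine (adjH.homEquiv_naturality_left η _).symm.trans ?_
    rw [IsIso.hom_inv_id_assoc]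
    exact Equiv.apply_symm_apply _ _
  have h2 : r ≫ η = 𝟙 _ := by
    haveI := full_push i
    obtain ⟨g, hg⟩ := (Scheme.Modules.pushforward i).map_surjective (r ≫ η)
    have h3 : η ≫ (Scheme.Modules.pushforward i).map g = η := by
      rw [hg, ← Category.assoc]
      exact (congrArg (· ≫ η) h1).trans (Category.id_comp η)
    have h4 : g = 𝟙 _ := (adj.homEquiv H _).injective (by
      rw [Adjunction.homEquiv_unit, Adjunction.homEquiv_unit, CategoryTheory.Functor.map_id]
      exact h3.trans (Category.comp_id _).symm)
    rw [← hg, h4, CategoryTheory.Functor.map_id]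
  exact ⟨r, h1, h2⟩

/-- The right adjoint of `F ↦ ι_* (F ⊗ E)`. -/
def upper : P.Modules ⥤ X.Modules :=
  ModSite.sheafHom (O := P.sheaf) ((Scheme.Modules.pushforward i).obj E) ⋙ Scheme.Modules.pullback i

/-- `ℋom(ι_* E, -) ≅ ι_* ∘ upper`. -/
def upperPushIso :
    ModSite.sheafHom (O := P.sheaf) ((Scheme.Modules.pushforward i).obj E) ≅
      upper i E ⋙ Scheme.Modules.pushforward i :=
  NatIso.ofComponents
    (fun N =>
      haveI := isIso_unit_sheafHom i E N
      asIso ((Scheme.Modules.pullbackPushforwardAdjunction i).unit.app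
        ((ModSite.sheafHom (O := P.sheaf) ((Scheme.Modules.pushforward i).obj E)).obj N)))
    fun g => (Scheme.Modules.pullbackPushforwardAdjunction i).unit.naturality _

/-- The adjunction. -/
def upperAdj : tenR E ⋙ Scheme.Modules.pushforward i ⊣ upper i E :=
  Adjunction.restrictFullyFaithful
    (ModSite.sheafHomAdj (O := P.sheaf) ((Scheme.Modules.pushforward i).obj E) :
      tenR ((Scheme.Modules.pushforward i).obj E) ⊣
        (ModSite.sheafHom (O := P.sheaf) ((Scheme.Modules.pushforward i).obj E) : P.Modules ⥤ P.Modules))
    (pushFF i) (Functor.FullyFaithful.id P.Modules)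
    (pushTenSquare i E) (Functor.leftUnitor _ ≪≫ upperPushIso i E)

theorem upper_additive : (upper i E).Additive := (upperAdj i E).right_adjoint_additive

theorem upper_preservesInjective (hE : FlatMod.IsFinLocFree E) : (upper i E).PreservesInjectiveObjects :=
  haveI : (tenR E).PreservesMonomorphisms := ((isFlat_iff E).2 (isFlat_of_isFinLocFree hE)).right
  haveI : (Scheme.Modules.pushforward i).PreservesMonomorphisms :=
    Functor.preservesMonomorphisms_of_adjunction (Scheme.Modules.pullbackPushforwardAdjunction i)
  haveI : (tenR E ⋙ Scheme.Modules.pushforward i).PreservesMonomorphisms :=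
    Functor.preservesMonomorphisms_comp _ _
  Functor.preservesInjectiveObjects_of_adjunction_of_preservesMonomorphisms (upperAdj i E)

end Groth.Agent.ClImmProj14
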